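import Mathlib.AlgebraicGeometry.Gluing
import Mathlib.AlgebraicGeometry.AffineSpace
import Mathlib.CategoryTheory.Monoidal.Cartesian.Grp
import Groth.Prelude.Def_ModFun

/-!
# A family glued from two trivial families by an automorphism over the overlap
-/

set_option autoImplicit false
set_option linter.style.haveILetI false
set_option backward.isDefEq.respectTransparency false

universe u

open CategoryTheory CategoryTheory.Limits AlgebraicGeometry MonoidalCategory CartesianMonoidalCategory
open scoped MonObj

noncomputable section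

namespace IsotrivLib

/-- The diagram of two open immersions with the same source is glueable. -/
instance span_map_isOpenImmersion {W U V : Scheme.{u}} (f : W ⟶ U) (g : W ⟶ V) [IsOpenImmersion f]
    [IsOpenImmersion g] : ∀ {i j : WalkingSpan} (h : i ⟶ j), IsOpenImmersion ((span f g).map h) := by
  intro i j h
  cases h with
  | id => dsimp; simp only [CategoryTheory.Functor.map_id]; infer_instance
  | init l => cases l <;> assumption

theorem eq_of_pushout {W U V : Scheme.{u}} (f : W ⟶ U) (g : W ⟶ V) [IsOpenImmersion f] [IsOpenImmersion g]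
    {a : U} {b : V} (h : pushout.inl f g a = pushout.inr f g b) : ∃ w : W, f w = a ∧ g w = b := by
  obtain ⟨l, fi, fj, x, hx, hy⟩ := (Scheme.IsLocallyDirected.ι_eq_ι_iff (span f g)).1 h
  match l with
  | none =>
    cases fi with
    | init => cases fj with
      | init => exact ⟨x, hx, hy⟩
  | some .left => cases fj
  | some .right => cases fi

theorem exists_of_pushout {W U V : Scheme.{u}} (f : W ⟶ U) (g : W ⟶ V) [IsOpenImmersion f] [IsOpenImmersion g]
    (x : ↑(pushout f g)) : (∃ a, pushout.inl f g a = x) ∨ ∃ b, pushout.inr f g b = x := by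
  obtain ⟨l, y, hy⟩ := Scheme.IsLocallyDirected.ι_jointly_surjective (span f g) x
  match l with
  | none =>
    refine Or.inl ⟨f y, ?_⟩
    rw [← hy, ← Scheme.Hom.comp_apply]
    exact congrArg (fun (m : (span f g).obj none ⟶ pushout f g) => m y)
      (colimit.w (span f g) WalkingSpan.Hom.fst)
  | some .left => exact Or.inl ⟨y, hy⟩
  | some .right => exact Or.inr ⟨y, hy⟩

instance {W U V : Scheme.{u}} (f : W ⟶ U) (g : W ⟶ V) [IsOpenImmersion f] [IsOpenImmersion g] :
    IsOpenImmersion (pushout.inl f g) :=
  inferInstanceAs (IsOpenImmersion (colimit.ι (span f g) WalkingSpan.left))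

instance {W U V : Scheme.{u}} (f : W ⟶ U) (g : W ⟶ V) [IsOpenImmersion f] [IsOpenImmersion g] :
    IsOpenImmersion (pushout.inr f g) :=
  inferInstanceAs (IsOpenImmersion (colimit.ι (span f g) WalkingSpan.right))

variable {S : Scheme.{u}} {E Uo Wo : Over S} [GrpObj E] (jw : Wo ⟶ Uo) [IsOpenImmersion jw.left] (c : Wo ⟶ E)

/-- Translation by a family of points. -/
def twist : E ⊗ Wo ⟶ E ⊗ Wo := lift (fst E Wo * (snd E Wo ≫ c)) (snd E Wo)

instance : IsIso (twist c) := by
  refine ⟨lift (fst E Wo * (snd E Wo ≫ c)⁻¹) (snd E Wo), ?_, ?_⟩ <;>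
    apply CartesianMonoidalCategory.hom_ext
  all_goals simp [twist, MonObj.comp_mul, GrpObj.comp_inv, mul_assoc]

instance : IsIso (twist c).left := inferInstanceAs (IsIso ((Over.forget S).map (twist c)))

theorem twist_snd : twist c ≫ snd E Wo = snd E Wo := lift_snd _ _

/-- The inclusion of the family over the overlap. -/
def incl : E ⊗ Wo ⟶ E ⊗ Uo := E ◁ jw

theorem isPullback_incl : IsPullback (snd E Wo).left (incl jw (E := E)).left jw.left (snd E Uo).left := by
  have h : IsPullback (incl jw (E := E)).left (snd E Wo).left (snd E Uo).left jw.left := by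
    refine IsPullback.of_right ?_ ?_ (IsPullback.of_hasPullback E.hom Uo.hom)
    · rw [show (incl jw (E := E)).left ≫ pullback.fst E.hom Uo.hom = pullback.fst E.hom Wo.hom from
        congrArg CommaMorphism.left (whiskerLeft_fst E jw), Over.w jw]
      exact IsPullback.of_hasPullback E.hom Wo.hom
    · exact congrArg CommaMorphism.left (whiskerLeft_snd E jw)
  exact h.flip

instance : IsOpenImmersion (incl jw (E := E)).left :=
  MorphismProperty.of_isPullback (isPullback_incl jw (E := E)) ‹IsOpenImmersion jw.left›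

/-- The inclusion of the family over the overlap into the second piece. -/
def incl' : E ⊗ Wo ⟶ E ⊗ Uo := twist c ≫ incl jw

instance : IsOpenImmersion (incl' jw c).left := by
  rw [incl', Over.comp_left]
  infer_instance

/-- The glued base. -/
abbrev base : Scheme.{u} := pushout jw.left jw.left

/-- The glued family. -/
abbrev total : Scheme.{u} := pushout (incl jw (E := E)).left (incl' jw c).left

/-- The glued base over `S`. -/
def baseOver : Over S := Over.mk (pushout.desc Uo.hom Uo.hom rfl : base jw ⟶ S)

/-- The projection of the glued family. -/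
def proj : total jw c ⟶ base jw :=
  pushout.map _ _ _ _ (snd E Uo).left (snd E Uo).left (snd E Wo).left
    (congrArg CommaMorphism.left (whiskerLeft_snd E jw))
    (congrArg CommaMorphism.left (show incl' jw c ≫ snd E Uo = snd E Wo ≫ jw by
      rw [incl', Category.assoc, incl, whiskerLeft_snd, ← Category.assoc, twist_snd]))

theorem inl_proj : pushout.inl _ _ ≫ proj jw c = (snd E Uo).left ≫ pushout.inl jw.left jw.left :=
  pushout.inl_desc _ _ _

theorem inr_proj : pushout.inr _ _ ≫ proj jw c = (snd E Uo).left ≫ pushout.inr jw.left jw.left :=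
  pushout.inr_desc _ _ _

theorem exists_incl (a : ↑(E ⊗ Uo).left) (w : Wo.left) (h : (snd E Uo).left a = jw.left w) :
    ∃ z, (incl jw (E := E)).left z = a := by
  have H := isPullback_incl jw (E := E)
  have ha : a ∈ (snd E Uo).left ⁻¹' Set.range jw.left := ⟨w, h.symm⟩
  have hr : Set.range (incl jw (E := E)).left = (snd E Uo).left ⁻¹' Set.range jw.left := by
    rw [← H.isoPullback_hom_snd]
    refine Eq.trans ?_ (IsOpenImmersion.range_pullbackSnd _ _)
    rw [Scheme.Hom.comp_base, TopCat.coe_comp, Set.range_comp,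
      show Set.range H.isoPullback.hom.base = Set.univ from Set.range_eq_univ.2 H.isoPullback.hom.homeomorph.surjective,
      Set.image_univ]
  exact hr.ge ha

theorem exists_incl' (a : ↑(E ⊗ Uo).left) (w : Wo.left) (h : (snd E Uo).left a = jw.left w) :
    ∃ z, (incl' jw c).left z = a := by
  obtain ⟨z, hz⟩ := exists_incl jw a w h
  obtain ⟨y, hy⟩ := (asIso (twist c).left).hom.homeomorph.surjective z
  exact ⟨y, by rw [incl', Over.comp_left, Scheme.Hom.comp_apply, ← hz]; exact congrArg _ hy⟩

theorem isPullback_inl : IsPullback (snd E Uo).left (pushout.inl _ _) (pushout.inl jw.left jw.left) (proj jw c) := by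
  refine IsOpenImmersion.isPullback _ _ _ _ (inl_proj jw c) (TopologicalSpace.Opens.ext (Set.ext fun x => ?_))
  refine ⟨fun hx => ?_, fun ⟨a, ha⟩ => ⟨(snd E Uo).left a, by
    rw [← ha, ← Scheme.Hom.comp_apply, ← Scheme.Hom.comp_apply, inl_proj]⟩⟩
  obtain ⟨u, hu⟩ := hx
  rcases exists_of_pushout _ _ x with h | ⟨b, hb⟩
  · exact h
  · rw [← hb, ← Scheme.Hom.comp_apply, inr_proj, Scheme.Hom.comp_apply] at hu
    obtain ⟨w, hw1, hw2⟩ := eq_of_pushout _ _ hu
    obtain ⟨z, hz⟩ := exists_incl' jw c b w hw2.symm
    refine ⟨(incl jw (E := E)).left z, ?_⟩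
    rw [← hb, ← hz, ← Scheme.Hom.comp_apply, ← Scheme.Hom.comp_apply, pushout.condition]

theorem isPullback_inr : IsPullback (snd E Uo).left (pushout.inr _ _) (pushout.inr jw.left jw.left) (proj jw c) := by
  refine IsOpenImmersion.isPullback _ _ _ _ (inr_proj jw c) (TopologicalSpace.Opens.ext (Set.ext fun x => ?_))
  refine ⟨fun hx => ?_, fun ⟨a, ha⟩ => ⟨(snd E Uo).left a, by
    rw [← ha, ← Scheme.Hom.comp_apply, ← Scheme.Hom.comp_apply, inr_proj]⟩⟩
  obtain ⟨u, hu⟩ := hx
  rcases exists_of_pushout _ _ x with ⟨a, ha⟩ | h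
  · rw [← ha, ← Scheme.Hom.comp_apply, inl_proj, Scheme.Hom.comp_apply] at hu
    obtain ⟨w, hw1, hw2⟩ := eq_of_pushout _ _ hu.symm
    obtain ⟨z, hz⟩ := exists_incl jw a w hw1.symm
    refine ⟨(incl' jw c).left z, ?_⟩
    rw [← ha, ← hz, ← Scheme.Hom.comp_apply, ← Scheme.Hom.comp_apply, pushout.condition]
  · exact h

omit [GrpObj E] in
/-- A point of the glued base with values in a field lies in one of the two pieces. -/
theorem exists_lift_base {K : Type u} [Field K] (y : Spec (CommRingCat.of K) ⟶ base jw) :
    ∃ u : Spec (CommRingCat.of K) ⟶ Uo.left, u ≫ pushout.inl jw.left jw.left = y ∨ u ≫ pushout.inr jw.left jw.left = y := by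
  have hsub : Set.range y = {y (IsLocalRing.closedPoint K)} := by
    ext z; simp [Subsingleton.elim _ (IsLocalRing.closedPoint K), eq_comm]
  rcases exists_of_pushout jw.left jw.left (y (IsLocalRing.closedPoint K)) with ⟨a, ha⟩ | ⟨b, hb⟩
  · exact ⟨IsOpenImmersion.lift (pushout.inl jw.left jw.left) y (by rw [hsub, Set.singleton_subset_iff]; exact ⟨a, ha⟩),
      Or.inl (IsOpenImmersion.lift_fac _ _ _)⟩
  · exact ⟨IsOpenImmersion.lift (pushout.inr jw.left jw.left) y (by rw [hsub, Set.singleton_subset_iff]; exact ⟨b, hb⟩),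
      Or.inr (IsOpenImmersion.lift_fac _ _ _)⟩

theorem isCurveOfGenus_of_isPullback {g : ℕ} {X T C' T' : Scheme.{u}} {p : X ⟶ T} {p' : C' ⟶ T'} {i : C' ⟶ X}
    {j : T' ⟶ T} (h : ModFun.IsCurveOfGenus g p) (H : IsPullback i p' p j) : ModFun.IsCurveOfGenus g p' :=
  ⟨MorphismProperty.of_isPullback H h.1, MorphismProperty.of_isPullback H h.2.1,
    MorphismProperty.of_isPullback H h.2.2.1, fun Ω _ _ t X' i' q H' =>
      h.2.2.2 Ω (t ≫ j) X' (i' ≫ i) q (H'.paste_horiz H)⟩

/-- The glued family is a family of curves. -/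
theorem isCurveOfGenus_proj {g : ℕ} (h : ModFun.IsCurveOfGenus g (snd E Uo).left) :
    ModFun.IsCurveOfGenus g (proj jw c) := by
  have key : ∀ (P : MorphismProperty Scheme.{u}) [IsZariskiLocalAtTarget P],
      P (snd E Uo).left → P (proj jw c) := by
    intro P _ hP
    refine IsZariskiLocalAtTarget.of_iSup_eq_top (P := P) (f := proj jw c)
      (fun b : Bool => bif b then (pushout.inl jw.left jw.left).opensRange else (pushout.inr jw.left jw.left).opensRange)
      (top_le_iff.1 fun x _ => ?_) ?_
    · rw [TopologicalSpace.Opens.mem_iSup]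
      rcases exists_of_pushout jw.left jw.left x with h | h
      · exact ⟨true, h⟩
      · exact ⟨false, h⟩
    · intro b
      cases b
      · refine (P.arrow_mk_iso_iff (morphismRestrictOpensRange (proj jw c) (pushout.inr jw.left jw.left))).2 ?_
        rw [← MorphismProperty.cancel_left_of_respectsIso P (isPullback_inr jw c).flip.isoPullback.hom,
          IsPullback.isoPullback_hom_snd]
        exact hP
      · refine (P.arrow_mk_iso_iff (morphismRestrictOpensRange (proj jw c) (pushout.inl jw.left jw.left))).2 ?_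
        rw [← MorphismProperty.cancel_left_of_respectsIso P (isPullback_inl jw c).flip.isoPullback.hom,
          IsPullback.isoPullback_hom_snd]
        exact hP
  refine ⟨key @Smooth h.1, key @IsProper h.2.1, ⟨fun K _ y Y fst' snd' H => ?_⟩, fun Ω _ _ t X i q H => ?_⟩
  · obtain ⟨u, hu⟩ := exists_lift_base jw y
    haveI := h.2.2.1
    rcases hu with hu | hu
    · exact GeometricallyIrreducible.geometrically_irreducibleSpace (f := (snd E Uo).left) u _ snd'
        (IsPullback.of_right (h₁₁ := (isPullback_inl jw c).flip.lift fst' (snd' ≫ u) (by rw [H.w, Category.assoc, hu]))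
          (by rw [IsPullback.lift_fst, hu]; exact H) (IsPullback.lift_snd _ _ _ _) (isPullback_inl jw c).flip)
    · exact GeometricallyIrreducible.geometrically_irreducibleSpace (f := (snd E Uo).left) u _ snd'
        (IsPullback.of_right (h₁₁ := (isPullback_inr jw c).flip.lift fst' (snd' ≫ u) (by rw [H.w, Category.assoc, hu]))
          (by rw [IsPullback.lift_fst, hu]; exact H) (IsPullback.lift_snd _ _ _ _) (isPullback_inr jw c).flip)
  · obtain ⟨u, hu⟩ := exists_lift_base jw t
    rcases hu with hu | hu
    · exact h.2.2.2 Ω u X _ q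
        (IsPullback.of_right (h₁₁ := (isPullback_inl jw c).flip.lift i (q ≫ u) (by rw [H.w, Category.assoc, hu]))
          (by rw [IsPullback.lift_fst, hu]; exact H) (IsPullback.lift_snd _ _ _ _) (isPullback_inl jw c).flip)
    · exact h.2.2.2 Ω u X _ q
        (IsPullback.of_right (h₁₁ := (isPullback_inr jw c).flip.lift i (q ≫ u) (by rw [H.w, Category.assoc, hu]))
          (by rw [IsPullback.lift_fst, hu]; exact H) (IsPullback.lift_snd _ _ _ _) (isPullback_inr jw c).flip)

end IsotrivLib
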