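import Groth.Agent.ConstAffLib.Basic
import Groth.Agent.IsotrivLib.Glue

/-!
# The cross and the two punctured lines on it
-/

set_option autoImplicit false
set_option linter.style.haveILetI false
set_option backward.isDefEq.respectTransparency false

universe u

open CategoryTheory CategoryTheory.Limits AlgebraicGeometry MonoidalCategory CartesianMonoidalCategory
open scoped MonObj

noncomputable section

namespace IsotrivLib

variable (k : Type u) [Field k]

/-- The coordinate ring of the cross. -/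
abbrev CR : Type u := MvPolynomial (Fin 2) k ⧸ Ideal.span {(MvPolynomial.X 0 * MvPolynomial.X 1 : MvPolynomial (Fin 2) k)}

/-- The coordinate functions. -/
def xy (i : Fin 2) : CR k := Ideal.Quotient.mk _ (MvPolynomial.X i)

theorem xy_mul : xy k 0 * xy k 1 = 0 := by
  rw [xy, xy, ← map_mul, Ideal.Quotient.eq_zero_iff_mem]
  exact Ideal.subset_span rfl

/-- The cross over `k`. -/
def cross : Over (Spec (CommRingCat.of k)) :=
  Over.mk (Spec.map (CommRingCat.ofHom (algebraMap k (CR k))))

/-- The branch `i`, as an open of the cross. -/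
def branch (i : Fin 2) : (cross k).left.Opens := PrimeSpectrum.basicOpen (xy k i)

theorem disjoint_branch : Disjoint (branch k 0) (branch k 1) := by
  rw [disjoint_iff, branch, branch]
  refine eq_bot_iff.2 fun p hp => ?_
  have h0 : xy k 0 ∉ p.asIdeal := hp.1
  have h1 : xy k 1 ∉ p.asIdeal := hp.2
  exact (p.2.mem_or_mem (by rw [xy_mul]; exact p.asIdeal.zero_mem)).elim h0 h1

/-- The union of the two punctured branches. -/
def punctured : Over (Spec (CommRingCat.of k)) :=
  Over.mk ((branch k 0 ⊔ branch k 1).ι ≫ (cross k).hom)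

/-- The inclusion of the punctured cross. -/
def punctIncl : punctured k ⟶ cross k := Over.homMk (branch k 0 ⊔ branch k 1).ι rfl

instance : IsOpenImmersion (punctIncl k).left := inferInstanceAs (IsOpenImmersion (branch k 0 ⊔ branch k 1).ι)

variable {k}

/-- A morphism on the punctured cross given by one point on each branch. -/
theorem exists_glue {A : Over (Spec (CommRingCat.of k))} (a₀ a₁ : 𝟙_ (Over (Spec (CommRingCat.of k))) ⟶ A) :
    ∃ c : punctured k ⟶ A, ∀ {T : Over (Spec (CommRingCat.of k))} (h : T ⟶ punctured k),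
      (Set.range (h ≫ punctIncl k).left ⊆ (branch k 0 : Set (cross k).left) → h ≫ c = toUnit T ≫ a₀) ∧
      (Set.range (h ≫ punctIncl k).left ⊆ (branch k 1 : Set (cross k).left) → h ≫ c = toUnit T ≫ a₁) := by
  let V := branch k 0 ⊔ branch k 1
  let f := (cross k).left.homOfLE (show branch k 0 ≤ V from le_sup_left)
  let g := (cross k).left.homOfLE (show branch k 1 ≤ V from le_sup_right)
  have hf : f.opensRange = V.ι ⁻¹ᵁ branch k 0 := Scheme.opensRange_homOfLE _
  have hg : g.opensRange = V.ι ⁻¹ᵁ branch k 1 := Scheme.opensRange_homOfLE _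
  have hcompl : IsCompl f.opensRange g.opensRange := by
    rw [hf, hg]
    refine IsCompl.of_eq (TopologicalSpace.Opens.ext (Set.ext fun z => ?_)) (TopologicalSpace.Opens.ext (Set.ext fun z => ?_))
    · simp only [TopologicalSpace.Opens.coe_inf, TopologicalSpace.Opens.coe_bot, Set.mem_empty_iff_false, iff_false]
      intro hz
      exact (disjoint_branch k).le_bot (show V.ι z ∈ branch k 0 ⊓ branch k 1 from ⟨hz.1, hz.2⟩)
    · simp only [TopologicalSpace.Opens.coe_sup, TopologicalSpace.Opens.coe_top, Set.mem_univ, iff_true]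
      exact z.2
  obtain ⟨hc⟩ := nonempty_isColimit_binaryCofanMk_of_isCompl f g hcompl
  let φ (a : 𝟙_ (Over (Spec (CommRingCat.of k))) ⟶ A) (i : Fin 2) : (branch k i).toScheme ⟶ A.left :=
    (branch k i).ι ≫ (cross k).hom ≫ a.left
  let c₀ : V.toScheme ⟶ A.left := hc.desc (BinaryCofan.mk (φ a₀ 0) (φ a₁ 1))
  have e0 : f ≫ c₀ = φ a₀ 0 := hc.fac _ ⟨WalkingPair.left⟩
  have e1 : g ≫ c₀ = φ a₁ 1 := hc.fac _ ⟨WalkingPair.right⟩
  have hw : c₀ ≫ A.hom = V.ι ≫ (cross k).hom := by
    refine BinaryCofan.IsColimit.hom_ext hc ?_ ?_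
    · show f ≫ c₀ ≫ A.hom = f ≫ _
      rw [reassoc_of% e0]
      simp [f, φ, V, show a₀.left ≫ A.hom = 𝟙 _ from Over.w a₀]
    · show g ≫ c₀ ≫ A.hom = g ≫ _
      rw [reassoc_of% e1]
      simp [g, φ, V, show a₁.left ≫ A.hom = 𝟙 _ from Over.w a₁]
  refine ⟨Over.homMk c₀ hw, fun {T} h => ⟨fun hr => ?_, fun hr => ?_⟩⟩
  · let h' := IsOpenImmersion.lift (branch k 0).ι (h ≫ punctIncl k).left (by rw [Scheme.Opens.range_ι]; exact hr)
    have hh : h' ≫ (branch k 0).ι = h.left ≫ V.ι := IsOpenImmersion.lift_fac _ _ _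
    have hh' : h.left = h' ≫ f := by
      rw [← cancel_mono V.ι, Category.assoc, Scheme.homOfLE_ι]
      exact hh.symm
    apply Over.OverMorphism.ext
    show h.left ≫ c₀ = T.hom ≫ a₀.left
    rw [hh', Category.assoc, e0, reassoc_of% hh, ← show (h.left ≫ V.ι ≫ (cross k).hom) = T.hom from Over.w h]
    simp
  · let h' := IsOpenImmersion.lift (branch k 1).ι (h ≫ punctIncl k).left (by rw [Scheme.Opens.range_ι]; exact hr)
    have hh : h' ≫ (branch k 1).ι = h.left ≫ V.ι := IsOpenImmersion.lift_fac _ _ _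
    have hh' : h.left = h' ≫ g := by
      rw [← cancel_mono V.ι, Category.assoc, Scheme.homOfLE_ι]
      exact hh.symm
    apply Over.OverMorphism.ext
    show h.left ≫ c₀ = T.hom ≫ a₁.left
    rw [hh', Category.assoc, e1, reassoc_of% hh, ← show (h.left ≫ V.ι ≫ (cross k).hom) = T.hom from Over.w h]
    simp

/-- The affine line over `k`. -/
def line : Over (Spec (CommRingCat.of k)) :=
  Over.mk (𝔸(PUnit.{u + 1}; Spec (CommRingCat.of k)) ↘ Spec (CommRingCat.of k))

/-- The point `a` of the affine line. -/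
def linePt (a : k) : 𝟙_ (Over (Spec (CommRingCat.of k))) ⟶ line (k := k) :=
  Over.homMk (AffineSpace.homOfVector (𝟙 _) fun _ => (Scheme.ΓSpecIso (CommRingCat.of k)).inv a)
    (AffineSpace.homOfVector_over _ _)

/-- The point with coordinates `v` of the cross. -/
def crossPt (v : Fin 2 → k) (hv : v 0 * v 1 = 0) : 𝟙_ (Over (Spec (CommRingCat.of k))) ⟶ cross k :=
  Over.homMk (Spec.map (CommRingCat.ofHom (Ideal.Quotient.lift _ (MvPolynomial.eval v) (fun a ha => by
    obtain ⟨b, rfl⟩ := Ideal.mem_span_singleton'.1 ha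
    simp [hv])))) (by
    show Spec.map _ ≫ Spec.map _ = 𝟙 _
    rw [← Spec.map_comp, ← Spec.map_id]
    congr 1
    ext r
    simp [IsScalarTower.algebraMap_apply k (MvPolynomial (Fin 2) k) (CR k)])

theorem crossPt_range (v : Fin 2 → k) (hv : v 0 * v 1 = 0) (i : Fin 2) (hi : v i ≠ 0) :
    Set.range (crossPt v hv).left ⊆ (branch k i : Set (cross k).left) := by
  rintro _ ⟨p, rfl⟩ hmem
  refine hi ?_
  have : Ideal.Quotient.lift _ (MvPolynomial.eval v) _ (xy k i) ∈ (p : PrimeSpectrum k).asIdeal := hmem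
  rw [xy, Ideal.Quotient.lift_mk, MvPolynomial.eval_X] at this
  have hp : (p : PrimeSpectrum k).asIdeal = ⊥ :=
    (Ideal.eq_bot_or_top _).resolve_right (p : PrimeSpectrum k).2.ne_top
  rwa [hp, Ideal.mem_bot] at this

/-- Two points on the same branch lie on a common line. -/
theorem exists_line (v : Fin 2 → k) (hv : v 0 * v 1 = 0) :
    ∃ l : line (k := k) ⟶ cross k, linePt 0 ≫ l = crossPt 0 (by simp) ∧ linePt 1 ≫ l = crossPt v hv := by
  let L := (line (k := k)).left
  let ρ : k →+* Γ(L, ⊤) := ((Scheme.ΓSpecIso (CommRingCat.of k)).inv ≫ (line (k := k)).hom.appTop).hom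
  let t : Γ(L, ⊤) := AffineSpace.coord (Spec (CommRingCat.of k)) PUnit.unit
  let θ : CR k →+* Γ(L, ⊤) := Ideal.Quotient.lift _ (MvPolynomial.eval₂Hom ρ fun i => ρ (v i) * t) (fun a ha => by
    obtain ⟨b, rfl⟩ := Ideal.mem_span_singleton'.1 ha
    simp only [map_mul, MvPolynomial.eval₂Hom_X']
    rw [show ρ (v 0) * t * (ρ (v 1) * t) = ρ (v 0 * v 1) * (t * t) by rw [map_mul]; ring, hv, map_zero, zero_mul,
      mul_zero])
  have hθ : θ.comp (algebraMap k (CR k)) = ρ := RingHom.ext fun r => by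
    simp [θ, IsScalarTower.algebraMap_apply k (MvPolynomial (Fin 2) k) (CR k)]
  have hθC : ∀ r, θ (Ideal.Quotient.mk _ (MvPolynomial.C r)) = ρ r := fun r => by simp [θ]
  have hθX : ∀ i, θ (Ideal.Quotient.mk _ (MvPolynomial.X i)) = ρ (v i) * t := fun i => by simp [θ]
  let l₀ : L ⟶ (cross k).left := L.toSpecΓ ≫ Spec.map (CommRingCat.ofHom θ)
  have hl : l₀ ≫ (cross k).hom = (line (k := k)).hom := by
    show (L.toSpecΓ ≫ Spec.map _) ≫ Spec.map _ = _
    rw [Category.assoc, ← Spec.map_comp, ← CommRingCat.ofHom_comp, hθ]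
    show L.toSpecΓ ≫ Spec.map ((Scheme.ΓSpecIso (CommRingCat.of k)).inv ≫ (line (k := k)).hom.appTop) = _
    rw [Spec.map_comp, ← Scheme.toSpecΓ_naturality_assoc, toSpecΓ_SpecMap_ΓSpecIso_inv, Category.comp_id]
  refine ⟨Over.homMk l₀ hl, ?_⟩
  have key : ∀ (a : k) (w : Fin 2 → k) (hw : w 0 * w 1 = 0), (∀ i, w i = v i * a) →
      linePt a ≫ (Over.homMk l₀ hl : line (k := k) ⟶ cross k) = crossPt w hw := by
    intro a w hw hwa
    apply Over.OverMorphism.ext
    show (linePt a).left ≫ L.toSpecΓ ≫ Spec.map (CommRingCat.ofHom θ) = Spec.map _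
    let P := linePt a
    have hP : P.left ≫ L.toSpecΓ = (Spec (CommRingCat.of k)).toSpecΓ ≫ Spec.map P.left.appTop :=
      Scheme.toSpecΓ_naturality P.left
    rw [reassoc_of% hP, ← Spec.map_comp]
    have htS : (Spec (CommRingCat.of k)).toSpecΓ = Spec.map (Scheme.ΓSpecIso (CommRingCat.of k)).hom :=
      (SpecMap_ΓSpecIso_hom _).symm
    rw [htS, ← Spec.map_comp]
    congr 1
    apply CommRingCat.hom_ext
    refine Ideal.Quotient.ringHom_ext (MvPolynomial.ringHom_ext (fun r => ?_) fun i => ?_)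
    · simp only [RingHom.comp_apply, CommRingCat.hom_comp, CommRingCat.hom_ofHom, Ideal.Quotient.lift_mk,
        MvPolynomial.eval_C]
      erw [hθC]
      show (Scheme.ΓSpecIso (CommRingCat.of k)).hom (((line (k := k)).hom.appTop ≫ P.left.appTop)
        ((Scheme.ΓSpecIso (CommRingCat.of k)).inv r)) = r
      rw [← Scheme.Hom.comp_appTop, show P.left ≫ (line (k := k)).hom = 𝟙 _ from Over.w P, Scheme.Hom.id_appTop]
      exact (Scheme.ΓSpecIso (CommRingCat.of k)).inv_hom_id_apply r
    · simp only [RingHom.comp_apply, CommRingCat.hom_comp, CommRingCat.hom_ofHom, Ideal.Quotient.lift_mk,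
        MvPolynomial.eval_X, hwa i]
      erw [hθX]
      rw [map_mul, map_mul]
      congr 1
      · show (Scheme.ΓSpecIso (CommRingCat.of k)).hom (((line (k := k)).hom.appTop ≫ P.left.appTop)
          ((Scheme.ΓSpecIso (CommRingCat.of k)).inv (v i))) = v i
        rw [← Scheme.Hom.comp_appTop, show P.left ≫ (line (k := k)).hom = 𝟙 _ from Over.w P, Scheme.Hom.id_appTop]
        exact (Scheme.ΓSpecIso (CommRingCat.of k)).inv_hom_id_apply (v i)
      · show (Scheme.ΓSpecIso (CommRingCat.of k)).hom ((linePt a).left.appTop t) = a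
        rw [show (linePt a).left.appTop t = (Scheme.ΓSpecIso (CommRingCat.of k)).inv a from
          AffineSpace.homOfVector_appTop_coord _ _ _]
        exact (Scheme.ΓSpecIso (CommRingCat.of k)).inv_hom_id_apply a
  exact ⟨key 0 0 (by simp) fun i => by simp, key 1 v hv fun i => by simp⟩

end IsotrivLib
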