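import Groth.Agent.S7847
import Groth.Agent.S7840
import Groth.Agent.S7916
import Groth.Agent.SweepSix.GeomConn
import Groth.Agent.WeilResLib.Fibre
import Groth.Agent.EllLawLib.Field
import Groth.Agent.IdxRootLib.Cut
import Groth.Agent.HLVTLib.ConnDim
import Groth.Agent.GenusZeroLib.Rational
import Groth.Agent.S11577
import Groth.Agent.CurvLib.SupportVanish
import Groth.Prelude.Def_ModFun

/-!
# Existence of a curve of genus one over an algebraically closed field
-/

set_option autoImplicit false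
set_option linter.style.haveILetI false

universe u

open CategoryTheory CategoryTheory.Limits AlgebraicGeometry MvPolynomial GradedCechLib

noncomputable section

namespace IsotrivLib

variable {k : Type u} [Field k]

/-- Smooth morphisms with geometrically connected fibres have geometrically irreducible fibres. -/
theorem gi_of_smooth {X S : Scheme.{u}} (f : X ⟶ S) [Smooth f] [GeometricallyConnected f] :
    GeometricallyIrreducible f := by
  refine ⟨fun K _ y Y fst snd H => ?_⟩
  haveI : Smooth snd := MorphismProperty.of_isPullback H ‹Smooth f›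
  haveI : GeometricallyConnected snd := MorphismProperty.of_isPullback H ‹GeometricallyConnected f›
  exact Groth.Agent.WeilRes.irreducibleSpace_of_smooth_of_field snd

/-- The equation of the Fermat cubic. -/
def fermat : LefPen.Form 2 k 3 :=
  ⟨X 0 ^ 3 + X 1 ^ 3 + X 2 ^ 3, (MvPolynomial.mem_homogeneousSubmodule _ _).2
    (((isHomogeneous_X_pow 0 3).add (isHomogeneous_X_pow 1 3)).add (isHomogeneous_X_pow 2 3))⟩

/-- The equation of the cubic used in characteristic three. -/
def cubic3 : LefPen.Form 2 k 3 :=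
  ⟨X 1 ^ 2 * X 2 - X 0 ^ 3 - C 1 * X 0 * X 2 ^ 2 + C 0 * X 2 ^ 3, (MvPolynomial.mem_homogeneousSubmodule _ _).2 (by
    refine ((((isHomogeneous_X_pow 1 2).mul (isHomogeneous_X k 2)).sub (isHomogeneous_X_pow 0 3)).sub ?_).add ?_
    · exact (((isHomogeneous_C _ 1).mul (isHomogeneous_X k 0)).mul (isHomogeneous_X_pow 2 2))
    · exact ((isHomogeneous_C _ 0).mul (isHomogeneous_X_pow 2 3)))⟩

theorem subst_fermat (j : Fin 3) :
    GenusZeroLib.subst 2 k j (fermat (k := k)).1 =
      ![1 + X 0 ^ 3 + X 1 ^ 3, X 0 ^ 3 + 1 + X 1 ^ 3, X 0 ^ 3 + X 1 ^ 3 + 1] j := by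
  have e : ∀ (i : Fin 3), (Fin.insertNth i (1 : MvPolynomial (Fin 2) k) fun l => X l) =
      ![![1, X 0, X 1], ![X 0, 1, X 1], ![X 0, X 1, 1]] i := fun i => by
    funext m; fin_cases i <;> fin_cases m <;> rfl
  simp only [GenusZeroLib.subst, fermat, map_add, map_pow, eval₂Hom_X', e]
  fin_cases j <;> simp

theorem smooth_fermat (h3 : (3 : k) ≠ 0) :
    Smooth ((LefPen.hypIdeal (fermat (k := k))).subschemeι ≫ CohB1.ProjSpace.toSpec 2 k) := by
  rw [CIGen.smooth_hyp_iff]
  intro j
  have hs := subst_fermat (k := k) j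
  set f : MvPolynomial (Fin 2) k := 1 + X 0 ^ 3 + X 1 ^ 3 with hf
  have hj : GenusZeroLib.subst 2 k j (fermat (k := k)).1 = f := by
    rw [hs, hf]
    fin_cases j <;> simp <;> ring
  rw [hj]
  refine CIGen.smooth_of_jacIdeal_eq_top f ((Ideal.eq_top_iff_one _).2 ?_)
  have hd0 : pderiv 0 f = C 3 * X 0 ^ 2 := by simp [hf, pderiv_X, Pi.single_apply, map_ofNat]
  have hd1 : pderiv 1 f = C 3 * X 1 ^ 2 := by simp [hf, pderiv_X, Pi.single_apply, map_ofNat]
  have h0 : f ∈ CIGen.jacIdeal f := Ideal.mem_sup_left (Ideal.subset_span rfl)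
  have h1 : ∀ l, pderiv l f ∈ CIGen.jacIdeal f := fun l => Ideal.mem_sup_right (Ideal.subset_span ⟨l, rfl⟩)
  have hu : C (3 : k)⁻¹ * C 3 = (1 : MvPolynomial (Fin 2) k) := by rw [← C_mul, inv_mul_cancel₀ h3, C_1]
  have : (1 : MvPolynomial (Fin 2) k) =
      f - (X 0 * C (3 : k)⁻¹) * pderiv 0 f - (X 1 * C (3 : k)⁻¹) * pderiv 1 f := by
    rw [hd0, hd1, hf]
    linear_combination (X 0 ^ 3 + X 1 ^ 3) * hu
  rw [this]
  exact sub_mem (sub_mem h0 (Ideal.mul_mem_left _ _ (h1 0))) (Ideal.mul_mem_left _ _ (h1 1))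

theorem smooth_cubic3 (h3 : (3 : k) = 0) :
    Smooth ((LefPen.hypIdeal (cubic3 (k := k))).subschemeι ≫ CohB1.ProjSpace.toSpec 2 k) := by
  have h2 : (2 : k) ≠ 0 := fun h => one_ne_zero (show (1 : k) = 0 by linear_combination h3 - h)
  letI : ((LefPen.hypIdeal (cubic3 (k := k))).subscheme).Over (Spec (CommRingCat.of k)) :=
    ⟨(LefPen.hypIdeal (cubic3 (k := k))).subschemeι ≫ CohB1.ProjSpace.toSpec 2 k⟩
  have hD : (4 : k) * 1 ^ 3 + 27 * 0 ^ 2 ≠ 0 := by
    have : (4 : k) * 1 ^ 3 + 27 * 0 ^ 2 = 2 * 2 := by ring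
    rw [this]
    exact mul_ne_zero h2 h2
  exact (Groth.Agent.S7847.result k h2 1 0 (cubic3 (k := k)) rfl rfl).2 hD

theorem exists_cubic : ∃ G : LefPen.Form 2 k 3, G ≠ 0 ∧ GenusZeroLib.subst 2 k 2 G.1 ≠ 0 ∧
    Smooth ((LefPen.hypIdeal G).subschemeι ≫ CohB1.ProjSpace.toSpec 2 k) := by
  by_cases h3 : (3 : k) = 0
  · have hne : GenusZeroLib.subst 2 k 2 (cubic3 (k := k)).1 ≠ 0 := fun h => by
      have h' : eval ![(1 : k), 0] (GenusZeroLib.subst 2 k 2 (cubic3 (k := k)).1) = 0 := by rw [h]; exact map_zero _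
      rw [show (cubic3 (k := k)).1 = X 1 ^ 2 * X 2 - X 0 ^ 3 - C 1 * X 0 * X 2 ^ 2 + C 0 * X 2 ^ 3 from rfl,
        Groth.Agent.S7847.subst_eq (1 : k) 0 2] at h'
      simp [Groth.Agent.S7847.h₂] at h'
      exact one_ne_zero (show (1 : k) = 0 by linear_combination h3 + h')
    exact ⟨cubic3, fun h => hne (by rw [h]; exact map_zero _), hne, smooth_cubic3 h3⟩
  · have hne : GenusZeroLib.subst 2 k 2 (fermat (k := k)).1 ≠ 0 := fun h => by
      have h' : eval ![(0 : k), 0] (GenusZeroLib.subst 2 k 2 (fermat (k := k)).1) = 0 := by rw [h]; exact map_zero _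
      rw [subst_fermat] at h'
      simp at h'
    exact ⟨fermat, fun h => hne (by rw [h]; exact map_zero _), hne, smooth_fermat h3⟩

theorem chartPoly_subst (j : Fin 3) :
    (GenusZeroLib.chartPoly 2 k j).comp (GenusZeroLib.subst 2 k j) = deh₀ 2 k j := by
  refine MvPolynomial.ringHom_ext (fun c => ?_) fun i => ?_
  · simp [GenusZeroLib.subst, GenusZeroLib.chartPoly, deh₀]
  · rcases Fin.eq_self_or_eq_succAbove j i with rfl | ⟨l, rfl⟩
    · rw [deh₀_X_self]
      simp [GenusZeroLib.subst, GenusZeroLib.chartPoly]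
    · simp [GenusZeroLib.subst, GenusZeroLib.chartPoly]

theorem le_one_of_lt_two {d : WithBot ℕ∞} (h : d < ((2 : ℕ) : WithBot ℕ∞)) : d ≤ (1 : ℕ) := by
  rcases d with _ | _ | n
  · exact bot_le
  · exact absurd h (not_lt.2 le_top)
  · exact WithBot.coe_le_coe.2 (ENat.coe_le_coe.2 (Nat.lt_succ_iff.1 (ENat.coe_lt_coe.1 (WithBot.coe_lt_coe.1 h))))

theorem dim_plane_curve {G : LefPen.Form 2 k 3} (hG : GenusZeroLib.subst 2 k 2 G.1 ≠ 0) :
    topologicalKrullDim ↥((LefPen.hypIdeal G).subscheme) ≤ 1 := by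
  classical
  let P := CohB1.ProjSpace 2 k
  let I := LefPen.hypIdeal G
  haveI : IsIntegral P := GenusZeroLib.isIntegral_projSpace k 2
  let ι := I.subschemeι
  have hcl : IsClosed (Set.range ι.base) := ι.isClosedEmbedding.isClosed_range
  have hd : topologicalKrullDim ↥(Set.range ι.base) = topologicalKrullDim ↥I.subscheme :=
    (IsHomeomorph.topologicalKrullDim_eq _ ι.isEmbedding.toHomeomorph.isHomeomorph).symm
  have hη : genericPoint P ∉ Set.range ι.base := by
    intro hmem
    haveI : Nonempty (CohB1.ProjSpace 2 k) := ⟨genericPoint P⟩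
    let U : P.affineOpens := ⟨LefPen.chart 2 k 2, CIGen.chart_affine 2⟩
    have hne : (U.1 : Set P).Nonempty := by
      by_contra hemp
      rw [Set.not_nonempty_iff_eq_empty] at hemp
      haveI : Subsingleton Γ(P, QCohLib.stdOpen 2 k 2) := by
        have : QCohLib.stdOpen 2 k 2 = ⊥ := TopologicalSpace.Opens.ext hemp
        rw [this]
        exact CommRingCat.subsingleton_of_isTerminal P.sheaf.isTerminalOfEmpty
      have hb : Function.Injective ((toSec 2 k 2).comp (GenusZeroLib.chartPoly 2 k 2)) :=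
        ((toSec_bijective 2 k 2).comp (GenusZeroLib.chartPoly_bijective 2 k 2)).1
      exact zero_ne_one (hb (Subsingleton.elim ((toSec 2 k 2).comp (GenusZeroLib.chartPoly 2 k 2) 0) _))
    have hηU : genericPoint P ∈ U.1 := (genericPoint_spec P).mem_open_set_iff U.1.2 |>.2 (by simpa using hne)
    have hs : genericPoint P ∈ (I.support : Set P) := by
      rw [← Scheme.IdealSheafData.range_subschemeι]; exact hmem
    rw [SetLike.mem_coe, Scheme.IdealSheafData.mem_support_iff_of_mem (U := U) hηU, Scheme.mem_zeroLocus_iff] at hs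
    let t : Γ(P, U.1) := GradedCechLib.deh 2 k 2 G.1
    have htI : t ∈ I.ideal U := by
      show t ∈ (LefPen.hypIdeal G).ideal U
      rw [CIGen.hypIdeal_chart]
      exact Ideal.subset_span rfl
    have hb := hs t htI
    have ht0 : t = 0 := by
      rw [← basicOpen_eq_bot_iff]
      ext z
      simp only [TopologicalSpace.Opens.coe_bot, Set.mem_empty_iff_false, iff_false]
      exact fun hz => hb ((genericPoint_spec P).mem_open_set_iff (P.basicOpen t).2 |>.2 ⟨z, trivial, hz⟩)
    refine hG (((toSec_bijective 2 k 2).comp (GenusZeroLib.chartPoly_bijective 2 k 2)).1 ?_)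
    simp only [Function.comp_apply, map_zero]
    refine Eq.trans ?_ ht0
    exact congrArg (toSec 2 k 2) (RingHom.congr_fun (chartPoly_subst 2) G.1)
  have h2 : topologicalKrullDim P = (2 : ℕ) := GenusZeroLib.dim_projSpace k 2
  have hU : topologicalKrullDim ↥(Set.univ : Set P) = (2 : ℕ) :=
    (IsHomeomorph.topologicalKrullDim_eq _ (Homeomorph.Set.univ ↥P).isHomeomorph).trans h2
  have hlt := HLVTLib.Conn.dim_lt (IrreducibleSpace.isIrreducible_univ P) hcl (Set.subset_univ _)
    (fun h => hη (h ▸ trivial)) (by rw [hU]; exact WithBot.coe_lt_coe.2 (ENat.coe_lt_top 2))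
  rw [hd, hU] at hlt
  exact le_one_of_lt_two hlt

/-- A curve of genus one with a group law over an algebraically closed field. -/
theorem exists_ell (k : Type u) [Field k] [IsAlgClosed k] :
    ∃ (E : Over (Spec (CommRingCat.of k))) (_ : GrpObj E), IsCommMonObj E ∧ IsProper E.hom ∧
      GeometricallyIrreducible E.hom ∧ Smooth E.hom ∧ topologicalKrullDim ↥E.left = 1 ∧
      ModFun.IsCurveOfGenus 1 E.hom := by
  classical
  obtain ⟨G, hG0, hG2, hsm⟩ := exists_cubic (k := k)
  let C := (LefPen.hypIdeal G).subscheme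
  let f : C ⟶ Spec (CommRingCat.of k) := (LefPen.hypIdeal G).subschemeι ≫ CohB1.ProjSpace.toSpec 2 k
  letI : C.Over (Spec (CommRingCat.of k)) := ⟨f⟩
  haveI : Smooth f := hsm
  haveI : IsProper (CohB1.ProjSpace.toSpec 2 k) := ProjDegLib.toSpec_isProper k 2
  haveI : IsProper f := MorphismProperty.comp_mem _ _ _ inferInstance inferInstance
  haveI : IsProper (C ↘ Spec (CommRingCat.of k)) := ‹IsProper f›
  obtain ⟨-, hconn, hgen⟩ := Groth.Agent.S7840.result k 3 (by norm_num) G hG0 rfl
  haveI := hconn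
  haveI : GeometricallyConnected f := SweepSix.GeomConn.gc_of_isAlgClosed f
  haveI hgi : GeometricallyIrreducible f := gi_of_smooth f
  haveI := CurvLib.isNoetherian k (X := C)
  have hgen1 : Module.finrank k (Coh.HH C (Coh.structureModule C) 1) = 1 := by rw [hgen]
  have hdim : topologicalKrullDim ↥C = 1 := by
    refine le_antisymm ((dim_plane_curve hG2).trans_eq rfl) (not_lt.1 fun hlt => ?_)
    have hle : topologicalKrullDim ↥C ≤ (0 : ℕ) := by
      revert hlt
      generalize topologicalKrullDim ↥C = d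
      intro hlt
      rcases d with _ | _ | n
      · exact bot_le
      · exact absurd hlt (not_lt.2 le_top)
      · exact WithBot.coe_le_coe.2 (ENat.coe_le_coe.2 (Nat.lt_one_iff.1 (ENat.coe_lt_coe.1 (WithBot.coe_lt_coe.1 hlt))).le)
    have := CurvLib.subsingleton_HH_of_dim_le (Coh.structureModule C) hle 1 one_pos
    rw [Module.finrank_zero_of_subsingleton] at hgen1
    exact zero_ne_one hgen1
  haveI : IrreducibleSpace C := Groth.Agent.WeilRes.irreducibleSpace_of_smooth_of_field f
  haveI : Nonempty C := inferInstance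
  obtain ⟨w, hw⟩ := GenusZeroLib.exists_rational_point_of_smooth f
  let o : MonoidalCategoryStruct.tensorUnit (Over (Spec (CommRingCat.of k))) ⟶ Over.mk f := Over.homMk w hw
  haveI : Smooth (Over.mk f).hom := hsm
  haveI : IsProper (Over.mk f).hom := ‹IsProper f›
  haveI : GeometricallyIrreducible (Over.mk f).hom := hgi
  obtain ⟨Gr, -, hcomm⟩ := Groth.Agent.S7916.result k (Over.mk f) hdim hgen1 o
  have hf : EllLawLib.IsCurveFam f := ⟨‹_›, ‹_›, ‹_›,
    fun s => (EllLawLib.dim_fiber_spec (k := k) f s).trans hdim,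
    fun s => (EllLawLib.fiberRank_spec (k := k) f 1 s).trans hgen1⟩
  refine ⟨Over.mk f, Gr, hcomm, ‹_›, hgi, hsm, hdim, hsm, ‹_›, hgi, fun Ω _ _ t X i q H => ?_⟩
  have hq := hf.of_isPullback H
  haveI : IsProper q := hq.proper
  letI : X.Over (Spec (CommRingCat.of Ω)) := ⟨q⟩
  let s₀ : Spec (CommRingCat.of Ω) := IsLocalRing.closedPoint Ω
  exact ⟨(EllLawLib.dim_fiber_spec (k := Ω) q s₀).symm.trans (hq.dim s₀),
    (EllLawLib.fiberRank_spec (k := Ω) q 1 s₀).symm.trans (hq.genus s₀)⟩

end IsotrivLib
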